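import Cfsg.Agent.Lib.InvChar.CosetCert

/-! Coset enumeration certificate J3Y11 for a presented sporadic group. -/

set_option autoImplicit false
set_option maxRecDepth 100000

namespace CfsgLib.InvChar.Coset.J3Y11

/-- facts -/
noncomputable def facts : Tr := (.leaf 0xdf000000000cf000190000bf000180000af0001700009f0001600015f000080002af000150000500002c00024400008000124000250000660001f000004000190002c40002b0002b00002a0002a3000290002960002800028700027000278000260002640001d0002500002400024300023000236000220002270002100021800020000204000110001f70001e0001e80001d0001d10001c0001c00001b0001b10001a0001a0000110001930001800018600017000177000160001680001500015100014000140000130001310001200012000004000118000100001070000f0000f60000e0000e3000040000d40000c0000c30000b0000b60000a0000a700009000098000080000830000700007400006000063000050000540000400004800003000037000020000260000100001300000)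
/-- justifications -/
noncomputable def just : Tr := (.leaf 0x2c000360000c0001000c00000060000d40002c000300300000017000340000a0001800c00000058000cc0002400070030000001500032000080002000c000000bc00090000b80004400010000c0000ac000a8000c400120090000001400013000120001100004000300002b0002a4043c020000000ac000a8000a4000a00009c00098000940007400078000b4000150a3900b00000007000060000500004000110002e000244006001c000000900008c0008800084000800007c000400003c0003800034000440a3900a0010001e0001d0001c0001b0001a00019000100000f0000e0000d0000400005028dc028008000600005c0005800054000500004c00048000440000c0000800004000000c3700c000)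
/-- relators -/
def rels : List (List ℕ) := [[0, 0], [1, 1], [2, 2], [3, 3], [4, 4], [5, 5], [6, 6], [7, 7], [8, 8], [9, 9], [5, 6, 5, 6, 5, 6], [5, 7, 5, 7, 5, 7, 5, 7, 5, 7], [6, 7, 6, 7, 6, 7], [5, 6, 7, 5, 6, 7, 5, 6, 7], [5, 6, 5, 7, 5, 6, 5, 7, 5, 6, 5, 7, 5, 6, 5, 7, 5, 6, 5, 7], [0, 1, 0, 1, 0, 4, 0, 4], [0, 2, 0, 2, 0, 4, 0, 4], [0, 3, 0, 3, 0, 4, 0, 4], [0, 4, 0, 4, 0, 4, 0, 4], [1, 2, 1, 2, 0, 4, 0, 4], [1, 3, 1, 3, 0, 4, 0, 4], [1, 4, 1, 4, 0, 4, 0, 4], [2, 3, 2, 3, 0, 4, 0, 4], [2, 4, 2, 4, 0, 4, 0, 4], [3, 4, 3, 4, 0, 4, 0, 4], [0, 1, 2, 3, 4], [5, 0, 5, 1], [5, 1, 5, 0], [5, 2, 5, 3], [5, 3, 5, 2], [5, 4, 5, 4], [6, 0, 6, 1], [6, 1, 6, 0], [6, 2, 6, 2], [6, 3, 6, 4], [6, 4, 6, 3], [7, 0, 7, 2], [7, 1, 7, 1], [7, 2, 7, 0], [7, 3, 7, 4], [7, 4, 7, 3], [4, 0, 4, 0, 4, 0, 4, 0], [4, 0, 4, 0, 1, 0, 4, 0, 4, 1], [4, 0, 4, 0, 2, 0, 4, 0, 4, 2], [4, 0, 4, 0, 3, 0, 4,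 0, 4, 3], [4, 0, 4, 0, 5, 0, 4, 0, 4, 5], [4, 0, 4, 0, 6, 0, 4, 0, 4, 6], [4, 0, 4, 0, 7, 0, 4, 0, 4, 7], [3, 6, 7, 8, 3, 6, 7, 8, 3, 6, 7, 8], [9, 3, 6, 7, 8, 9, 8, 7, 6, 3], [9, 3, 2, 5, 9, 3, 2, 5, 9, 3, 2, 5], [9, 7, 6, 3, 6, 7, 8, 9, 7, 6, 3, 6, 7, 8], [9, 3, 2, 5, 7, 6, 3, 6, 7, 8, 9, 3, 2, 5, 7, 6, 3, 6, 7, 8, 9, 3, 2, 5, 7, 6, 3, 6, 7, 8, 9, 3, 2, 5, 7, 6, 3, 6, 7, 8, 9, 3, 2, 5, 7, 6, 3, 6, 7, 8], [6, 7, 8, 3, 2, 5, 8, 7, 6, 3, 5, 2], [3, 6, 7, 8, 7, 6, 8, 7, 6, 3, 6, 7], [3, 6, 7, 8, 0, 1, 0, 1, 8, 7, 6, 3, 4], [9, 0, 1, 0, 1, 9, 5], [3, 6, 7, 8, 4, 8, 7, 6, 3, 0, 4, 0], [9, 4, 9, 7, 5, 6, 5, 7], [3, 6, 7, 8, 5, 8, 7, 6, 3, 7, 5, 6, 5, 7], [9, 5, 9, 1, 0, 1, 0], [3, 6, 7, 8, 6, 7, 5, 7, 6, 8, 7, 6, 3, 5], [9, 6, 7, 5, 7, 6, 9, 0, 4, 0], [6, 7, 8, 6, 7, 8, 6, 7]]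
/-- subgroup words -/
def subs : List (List ℕ) := []
/-- the letters, as letters of the whole group -/
def emb : List ℕ := [0, 1, 2, 3, 4, 5, 6, 7, 8, 9]
/-- certificate -/
noncomputable def cert : Cert := ⟨10, 56, 44, facts, just, rels, subs⟩

end CfsgLib.InvChar.Coset.J3Y11
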